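import Cfsg.Agent.GeomMax32.Linear

/-!
Subfield groups are maximal in `SL n`, `n ≥ 4` (helper66): the generic centre lemma of
`MaxSub.SubfieldMax` with the weaker count `q₀ ^ 3`.
-/

set_option autoImplicit false
set_option linter.unusedSectionVars false

namespace Cfsg.Agent.SL4Geo66

open Matrix Cfsg.Agent.MaxSub Cfsg.Agent.MaxSub.SubfieldMax
open scoped MatrixGroups Classical
open Cfsg.Agent.PLocalB (upper lower)

variable {ι : Type} [Fintype ι] [DecidableEq ι] {F : Type*} [Field F] {F₀ : Subfield F}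
variable {L : Subgroup (GL ι F)}

section Finite

variable [Fintype F] (htop : ∀ T : Subfield F, F₀ ≤ T → T = F₀ ∨ T = ⊤)
  (h4 : 4 ≤ Fintype.card ι) (hL : HasRat F₀ L)

include htop h4 hL

theorem full_of_generic (p : ℕ) [Fact p.Prime] [CharP F p] {r : ℕ}
    (hr : Nat.card F = Nat.card F₀ ^ r) {u φ : ι → F} (h0 : φ ⬝ᵥ u = 0) (h : tv u φ ∈ L)
    (hφ : φ ≠ 0) (hind : ∀ ψ : ι → F, IsRat F₀ ψ → ψ ⬝ᵥ u = 0 → ψ = 0) :
    Geo.specialLinear ι F ≤ L := by
  obtain ⟨b, hb⟩ := Function.ne_iff.1 hφ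
  simp only [Pi.zero_apply] at hb
  set e : ι → F := Pi.single b 1 with he
  have heR : IsRat F₀ e := isRat_single b (one_mem _)
  have he0 : e ≠ 0 := by simp [he]
  let W : AddSubgroup F :=
    { carrier := {s | ∃ η : ι → F, IsRat F₀ η ∧ η ⬝ᵥ e = 0 ∧ η ⬝ᵥ u = s}
      zero_mem' := ⟨0, fun _ => zero_mem _, zero_dotProduct _, zero_dotProduct _⟩
      add_mem' := by
        rintro x y ⟨η, h1, h2, h3⟩ ⟨θ, h4, h5, h6⟩
        exact ⟨η + θ, fun i => add_mem (h1 i) (h4 i), by rw [add_dotProduct, h2, h5, add_zero],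
          by rw [add_dotProduct, h3, h6]⟩
      neg_mem' := by
        rintro x ⟨η, h1, h2, h3⟩
        exact ⟨-η, fun i => neg_mem (h1 i), by rw [neg_dotProduct, h2, neg_zero],
          by rw [neg_dotProduct, h3]⟩ }
  -- sizes
  have hq₀ : 2 ≤ Nat.card F₀ := Finite.one_lt_card
  have hp2 : p ≤ Nat.card F₀ := by
    have : CharP F₀ p := F₀.subtype.charP Subtype.val_injective p
    have := Fintype.ofFinite F₀
    obtain ⟨n, hn⟩ := FiniteField.card F₀ p
    rw [Nat.card_eq_fintype_card, hn.2]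
    exact Nat.le_self_pow n.2.ne' p
  have hnr : Fintype.card ι ≤ r := by
    have := Nat.card_le_card_of_injective (fun f : ι → F₀ => (fun i => (f i : F)) ⬝ᵥ u)
      (fun f g hfg => by
        have := hind ((fun i => (f i : F)) - fun i => (g i : F))
          (fun i => sub_mem (f i).2 (g i).2) (by rw [sub_dotProduct]; exact sub_eq_zero.2 hfg)
        exact funext fun i => Subtype.ext (sub_eq_zero.1 (congrFun this i)))
    rw [Nat.card_fun, hr, Nat.card_eq_fintype_card (α := ι)] at this
    exact (Nat.pow_le_pow_iff_right hq₀).1 this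
  let ext : ({i // i ≠ b} → F₀) → ι → F := fun f i => if hi : i = b then 0 else (f ⟨i, hi⟩ : F)
  have hWcard : Nat.card W = Nat.card F₀ ^ (Fintype.card ι - 1) := by
    have key : Nat.card ({i // i ≠ b} → F₀) = Nat.card W := by
      refine Nat.card_congr (Equiv.ofBijective (fun f => (⟨ext f ⬝ᵥ u, ext f, fun i => ?_, ?_,
        rfl⟩ : W)) ⟨?_, ?_⟩)
      · simp only [ext]; split_ifs
        · exact zero_mem _
        · exact SetLike.coe_mem _
      · simp [he, ext]
      · intro f g hfg
        have hfg' : ext f ⬝ᵥ u = ext g ⬝ᵥ u := congrArg Subtype.val hfg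
        have := hind (ext f - ext g) (fun i => sub_mem (by
            simp only [ext]; split_ifs
            · exact zero_mem _
            · exact SetLike.coe_mem _) (by
            simp only [ext]; split_ifs
            · exact zero_mem _
            · exact SetLike.coe_mem _)) (by rw [sub_dotProduct, hfg', sub_self])
        funext i
        have := sub_eq_zero.1 (congrFun this i.1)
        simp only [ext, dif_neg i.2] at this
        exact Subtype.ext this
      · rintro ⟨s, η, h1, h2, rfl⟩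
        refine ⟨fun i => ⟨η i, h1 i⟩, Subtype.ext ?_⟩
        show ext (fun i : {i // i ≠ b} => (⟨η i, h1 i⟩ : F₀)) ⬝ᵥ u = η ⬝ᵥ u
        congr 1
        funext i
        simp only [ext]
        split_ifs with hi
        · subst hi; simpa [he] using h2.symm
        · rfl
    rw [← key, Nat.card_fun, Nat.card_eq_fintype_card (α := {i // i ≠ b}), Fintype.card_subtype_compl,
      Fintype.card_subtype_eq]
  have h8 : Nat.card F₀ ^ 3 ≤ Nat.card W := by
    rw [hWcard]; exact Nat.pow_le_pow_right (by omega) (by omega)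
  have h256 : 8 ≤ Nat.card W := le_trans (by simpa using Nat.pow_le_pow_left hq₀ 3) h8
  -- the group induced on the plane
  have hue : ∀ x y : F, x • e + y • u = 0 → x = 0 ∧ y = 0 := by
    intro x y hxy
    obtain ⟨i, hib, -⟩ := exists_third (by omega) b b
    have hui : u i ≠ 0 := fun hu0 => by
      have := hind (Pi.single i 1) (isRat_single i (one_mem _)) (by simp [hu0])
      simp at this
    have hy : y = 0 := by
      have := congrFun hxy i
      simpa [he, Pi.single_eq_of_ne hib, hui] using this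
    refine ⟨?_, hy⟩
    have := congrFun hxy b
    simpa [he, hy] using this
  let H : Subgroup SL(2, F) :=
    { carrier := {A | ∃ g ∈ L, (g : Matrix ι ι F) *ᵥ e = A 0 0 • e + A 1 0 • u ∧
        (g : Matrix ι ι F) *ᵥ u = A 0 1 • e + A 1 1 • u}
      one_mem' := ⟨1, one_mem _, by simp, by simp⟩
      mul_mem' := by
        rintro A B ⟨g, hg, g1, g2⟩ ⟨k, hk, k1, k2⟩
        refine ⟨g * k, mul_mem hg hk, ?_, ?_⟩
        · rw [Units.val_mul, ← mulVec_mulVec, k1, mulVec_add, mulVec_smul, mulVec_smul, g1, g2]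
          simp only [Matrix.SpecialLinearGroup.coe_mul, Matrix.mul_apply, Fin.sum_univ_two]
          module
        · rw [Units.val_mul, ← mulVec_mulVec, k2, mulVec_add, mulVec_smul, mulVec_smul, g1, g2]
          simp only [Matrix.SpecialLinearGroup.coe_mul, Matrix.mul_apply, Fin.sum_univ_two]
          module
      inv_mem' := by
        rintro A ⟨g, hg, g1, g2⟩
        have hd := PLocalB.det_entries A
        have hinv : (A⁻¹ : SL(2, F)).1 = !![A 1 1, -A 0 1; -A 1 0, A 0 0] := by
          rw [Matrix.SpecialLinearGroup.coe_inv, Matrix.adjugate_fin_two]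
        refine ⟨g⁻¹, inv_mem hg, mulVec_injective g ?_, mulVec_injective g ?_⟩
        · simp only [mulVec_inv_mulVec, mulVec_add, mulVec_smul, g1, g2, hinv]
          simp
          linear_combination (norm := module) -hd • e
        · simp only [mulVec_inv_mulVec, mulVec_add, mulVec_smul, g1, g2, hinv]
          simp
          linear_combination (norm := module) -hd • u }
  have hup : ∀ s ∈ W, upper s ∈ H := by
    rintro s ⟨η, h1, h2, rfl⟩
    refine ⟨tv e η, hL e η heR h1 h2, ?_, ?_⟩
    · rw [tv_mulVec h2, h2]; simp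
    · rw [tv_mulVec h2]; simp [add_comm]
  have hlow : lower (φ b) ∈ H := by
    refine ⟨tv u φ, h, ?_, ?_⟩
    · rw [tv_mulVec h0]; simp [he, lower]
    · rw [tv_mulVec h0, h0]; simp [lower]
  have hnr' : ∃ s ∈ W, φ b * s ∉ F₀ := by
    by_contra hall
    push Not at hall
    have h1 : Nat.card W ≤ Nat.card F₀ := Nat.card_le_card_of_injective
      (fun s : W => (⟨φ b * s, hall s s.2⟩ : F₀))
      (fun s t hst => Subtype.ext (mul_left_cancel₀ hb (congrArg Subtype.val hst :)))
    have h3 : Nat.card F₀ ^ 1 < Nat.card F₀ ^ 3 := Nat.pow_lt_pow_right hq₀ (by norm_num)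
    rw [pow_one] at h3
    omega
  have hfull := sl2_full p F₀ htop H W hup (by
      rintro c hc s ⟨η, h1, h2, rfl⟩
      exact ⟨c • η, fun i => mul_mem hc (h1 i), by simp [h2], by simp⟩) (by omega) (by
      have h2 : 2 * p ≤ Nat.card F₀ ^ 2 := by
        rw [sq]; exact Nat.mul_le_mul hq₀ hp2
      have h3 : Nat.card F₀ ^ 2 < Nat.card F₀ ^ 3 := Nat.pow_lt_pow_right hq₀ (by norm_num)
      omega) hlow hnr'
  -- a torus element moves the group `W`
  obtain ⟨s₀, hs₀, hs0⟩ := hnr'
  have hs00 : s₀ ≠ 0 := fun e => hs0 (by rw [e, mul_zero]; exact zero_mem _)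
  obtain ⟨c, hc0, hc⟩ : ∃ c : F, c ≠ 0 ∧ c ^ 2 * s₀ ∉ W := by
    by_contra hall
    push Not at hall
    have hsq : ∀ c : F, c ^ 2 * s₀ ∈ W := fun c => by
      rcases eq_or_ne c 0 with rfl | hc
      · simp [W.zero_mem]
      · exact hall c hc
    have hevery : ∀ y : F, y * s₀ ∈ W := by
      intro y
      by_cases h2 : (2 : F) = 0
      · have : CharP F 2 := CharTwo.of_one_ne_zero_of_two_eq_zero one_ne_zero h2
        obtain ⟨z, hz⟩ := FiniteField.isSquare_of_char_two (ringChar.eq F 2) y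
        rw [hz, ← sq]; exact hsq z
      · have := sub_mem (hsq ((y + 1) / 2)) (hsq ((y - 1) / 2))
        convert this using 1
        field_simp
        ring
    have h1 : Nat.card F ≤ Nat.card W := Nat.card_le_card_of_injective
      (fun y : F => (⟨y * s₀, hevery y⟩ : W))
      (fun x y hxy => mul_right_cancel₀ hs00 (congrArg Subtype.val hxy :))
    rw [hWcard, hr] at h1
    have := (Nat.pow_le_pow_iff_right hq₀).1 h1
    omega
  obtain ⟨g, hg, ε, hε, hge, hgu⟩ : ∃ g ∈ L, ∃ ε : F, ε * ε = 1 ∧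
      (g : Matrix ι ι F) *ᵥ e = (ε * c) • e ∧ (g : Matrix ι ι F) *ᵥ u = (ε * c⁻¹) • u := by
    let A : SL(2, F) := ⟨!![c, 0; 0, c⁻¹], by simp [Matrix.det_fin_two, hc0]⟩
    rcases hfull A with ⟨g, hg, g1, g2⟩ | ⟨g, hg, g1, g2⟩
    · exact ⟨g, hg, 1, one_mul 1, by simpa [A] using g1, by simpa [A] using g2⟩
    · have e' : ((-A : SL(2, F)) : Matrix (Fin 2) (Fin 2) F) = -!![c, 0; 0, c⁻¹] :=
        Matrix.SpecialLinearGroup.coe_neg A
      rw [e'] at g1 g2
      exact ⟨g, hg, -1, by ring, by simpa using g1, by simpa using g2⟩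
  obtain ⟨η, hη1, hη2, hη3⟩ := hs₀
  have hε0 : ε ≠ 0 := fun e => by simp [e] at hε
  have hgu' : ((g⁻¹ : GL ι F) : Matrix ι ι F) *ᵥ u = (ε * c) • u := by
    refine mulVec_injective g ?_
    simp only [mulVec_inv_mulVec, mulVec_smul, hgu, smul_smul]
    rw [show ε * c * (ε * c⁻¹) = 1 by
      rw [mul_mul_mul_comm, hε, mul_inv_cancel₀ hc0, one_mul], one_smul]
  have hconj := mul_mem (mul_mem hg (hL e η heR hη1 hη2)) (inv_mem hg)
  rw [tv_conj g hη2, hge, tv_smul_comm] at hconj
  swap
  · have := vecMul_inv_dotProduct g η e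
    rw [hge, dotProduct_smul, hη2, smul_eq_mul, mul_eq_zero] at this
    exact this.resolve_left (mul_ne_zero hε0 hc0)
  set θ := (ε * c) • (η ᵥ* ((g⁻¹ : GL ι F) : Matrix ι ι F)) with hθ
  have hθe : θ ⬝ᵥ e = 0 := by
    have := vecMul_inv_dotProduct g η e
    rw [hge, dotProduct_smul, hη2] at this
    rw [hθ, smul_dotProduct]; exact this
  obtain ⟨j, hj⟩ : ∃ j, θ j ∉ F₀ := by
    by_contra hall
    push Not at hall
    refine hc ⟨θ, hall, hθe, ?_⟩
    rw [hθ, smul_dotProduct, ← dotProduct_mulVec, hgu', dotProduct_smul, hη3, smul_eq_mul,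
      smul_eq_mul, ← mul_assoc, mul_mul_mul_comm, hε, one_mul, sq]
  exact full_of_centre htop h4 hL heR he0 hθe hconj hj

theorem full_of_tv {r : ℕ} (hr : Nat.card F = Nat.card F₀ ^ r)
    {u φ : ι → F} (h0 : φ ⬝ᵥ u = 0) (h : tv u φ ∈ L) {i j : ι} (hij : u i * φ j ∉ F₀) :
    Geo.specialLinear ι F ≤ L := by
  have hui : u i ≠ 0 := fun e => hij (by rw [e, zero_mul]; exact zero_mem _)
  have hφ : φ ≠ 0 := fun e => hij (by rw [e, Pi.zero_apply, mul_zero]; exact zero_mem _)
  by_cases hA : ∃ s : F, s ≠ 0 ∧ IsRat F₀ (s • u)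
  · obtain ⟨s, hs, hrat⟩ := hA
    have h' : tv (s • u) (s⁻¹ • φ) ∈ L := by
      rwa [tv_smul_comm s (by simp [h0]), smul_smul, mul_inv_cancel₀ hs, one_smul]
    refine full_of_centre htop h4 hL hrat (fun e => hui ?_) (by simp [h0]) h' (j := j) fun hm => hij ?_
    · simpa [hs] using congrFun e i
    · have := mul_mem (hrat i) hm
      simp only [Pi.smul_apply, smul_eq_mul] at this
      rwa [mul_mul_mul_comm, mul_inv_cancel₀ hs, one_mul] at this
  push Not at hA
  by_cases hB : ∃ ψ : ι → F, IsRat F₀ ψ ∧ ψ ≠ 0 ∧ ψ ⬝ᵥ u = 0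
  · obtain ⟨ψ, hψ, hψ0, hψu⟩ := hB
    by_cases hB' : ∃ e : ι → F, IsRat F₀ e ∧ ψ ⬝ᵥ e = 0 ∧ φ ⬝ᵥ e ≠ 0
    · obtain ⟨e, he, hψe, hφe⟩ := hB'
      exact full_of_axis_rat htop h4 hL hψ hψ0 hψu _ hφe
        (comm_mem h0 hψe h (hL e ψ he hψ hψe) hψu) hA
    · push Not at hB'
      obtain ⟨m, hm⟩ := Function.ne_iff.1 hψ0
      simp only [Pi.zero_apply] at hm
      have hprop : φ = (φ m / ψ m) • ψ := by
        funext l
        have := hB' (Pi.single l (ψ m) - Pi.single m (ψ l))
          (fun x => sub_mem (isRat_single l (hψ m) x) (isRat_single m (hψ l) x))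
          (by simp [dotProduct_sub, mul_comm])
        simp [dotProduct_sub, sub_eq_zero] at this
        simp only [Pi.smul_apply, smul_eq_mul]
        field_simp
        linear_combination this
      have hcne : φ m / ψ m ≠ 0 := fun e => hφ (by rw [hprop, e, zero_smul])
      exact full_of_axis_rat htop h4 hL hψ hψ0 hψu _ hcne (hprop ▸ h) hA
  · push Not at hB
    obtain ⟨p, hp⟩ := CharP.exists F
    have : Fact p.Prime := ⟨CharP.char_is_prime F p⟩
    exact full_of_generic htop h4 hL p hr h0 h hφ fun ψ h1 h2 => by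
      by_contra h3
      exact hB ψ h1 h3 h2

end Finite

end Cfsg.Agent.SL4Geo66

namespace Cfsg.Agent.SL4Geo66

open Cfsg

/-- Subfield groups are maximal in dimension at least four. -/
theorem subfield {F : Type*} [Field F] [Fintype F] (n : ℕ) (hn : 4 ≤ n) (F₀ : Subfield F) (r : ℕ) (hr : r.Prime) (hcard : Fintype.card F = Nat.card F₀ ^ r) (P : Matrix.GeneralLinearGroup (Fin n) F) : Cfsg.Geo.IsMaximalIn (Cfsg.Geo.specialLinear (Fin n) F) (Cfsg.Geo.subfieldSubgroup F₀ P ⊓ Cfsg.Geo.specialLinear (Fin n) F) := by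
  classical
  open Cfsg.Agent.MaxSub Cfsg.Agent.MaxSub.SubfieldMax Matrix in
  exact (by
    have hq : Nat.card F = Nat.card F₀ ^ r := by rw [Nat.card_eq_fintype_card]; exact hcard
    have hq₀ : 2 ≤ Nat.card F₀ := Finite.one_lt_card
    have htop : ∀ T : Subfield F, F₀ ≤ T → T = F₀ ∨ T = ⊤ := by
      intro T hT
      letI : Algebra F₀ T := (Subfield.inclusion hT).toAlgebra
      haveI : IsScalarTower F₀ T F := IsScalarTower.of_algebraMap_eq fun x => rfl
      have hF : Module.finrank F₀ F = r := by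
        have := Module.natCard_eq_pow_finrank (K := F₀) (V := F)
        rw [hq] at this
        exact (Nat.pow_right_injective hq₀ this).symm
      have hmul := Module.finrank_mul_finrank F₀ T F
      rw [hF] at hmul
      rcases hr.eq_one_or_self_of_dvd _ ⟨_, hmul.symm⟩ with h1 | h1
      · left
        refine le_antisymm (fun x hx => ?_) hT
        obtain ⟨c, hc⟩ := (finrank_eq_one_iff_of_nonzero' (1 : T) one_ne_zero).1 h1 ⟨x, hx⟩
        have := congrArg Subtype.val hc
        rw [Algebra.smul_def] at this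
        simp at this
        rw [← this]; exact c.2
      · right
        rw [h1] at hmul
        have h2 : Module.finrank T F = 1 := by
          have := hr.pos
          exact Nat.eq_of_mul_eq_mul_left this (by rw [hmul, mul_one])
        refine eq_top_iff.2 fun x _ => ?_
        obtain ⟨c, hc⟩ := (finrank_eq_one_iff_of_nonzero' (1 : F) one_ne_zero).1 h2 x
        rw [← hc, Algebra.smul_def]
        simp
        exact c.2
    let S := Cfsg.Geo.specialLinear (Fin n) F
    let M₀ := (Matrix.GeneralLinearGroup.map (F₀.subtype : F₀ →+* F)).range ⊔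
      Cfsg.Geo.scalars (Fin n) F
    have hM : ∀ x : Matrix.GeneralLinearGroup (Fin n) F,
        x ∈ Cfsg.Geo.subfieldSubgroup F₀ P ↔ P⁻¹ * x * P ∈ M₀ := by
      intro x
      refine ⟨?_, fun h => ⟨_, h, by simp [mul_assoc]⟩⟩
      rintro ⟨y, hy, rfl⟩
      simpa [mul_assoc] using hy
    have hdetS : ∀ x y : Matrix.GeneralLinearGroup (Fin n) F, y ∈ S → x * y * x⁻¹ ∈ S := by
      intro x y hy
      exact (inferInstance : (MonoidHom.ker
        (Matrix.GeneralLinearGroup.det (n := Fin n) (R := F))).Normal).conj_mem y hy x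
    have hratM : ∀ v φ : Fin n → F, IsRat F₀ v → IsRat F₀ φ → φ ⬝ᵥ v = 0 → tv v φ ∈ M₀ := by
      intro v φ hv hφ h0
      refine Subgroup.mem_sup_left ⟨tv (fun i => (⟨v i, hv i⟩ : F₀)) (fun i => ⟨φ i, hφ i⟩), ?_⟩
      refine Units.ext ?_
      have h0' : (fun i => (⟨φ i, hφ i⟩ : F₀)) ⬝ᵥ (fun i => (⟨v i, hv i⟩ : F₀)) = 0 := by
        refine Subtype.val_injective ?_
        rw [show ((0 : F₀) : F) = 0 from rfl, ← h0]
        exact (map_sum F₀.subtype _ _).trans rfl
      show (tv (fun i => (⟨v i, hv i⟩ : F₀)) (fun i => (⟨φ i, hφ i⟩ : F₀))).1.map F₀.subtype = _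
      rw [tv_coe h0, tv_coe h0']
      ext a b
      simp [Matrix.map_apply, Matrix.one_apply, vecMulVec_apply]
      split_ifs <;> simp
    refine isMaximalIn_of inf_le_right ?_ ?_
    · obtain ⟨c, hc⟩ : ∃ c : F, c ∉ F₀ := by
        by_contra hall
        push Not at hall
        have : Nat.card F ≤ Nat.card F₀ := Nat.card_le_card_of_injective
          (fun x => (⟨x, hall x⟩ : F₀)) fun x y h => congrArg Subtype.val h
        rw [hq] at this
        have h2 : Nat.card F₀ ^ 1 < Nat.card F₀ ^ r := Nat.pow_lt_pow_right hq₀ hr.one_lt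
        rw [pow_one] at h2
        omega
      let a : Fin n := ⟨0, by omega⟩
      let b : Fin n := ⟨1, by omega⟩
      have hab : a ≠ b := by simp [a, b]
      let T := tv (Pi.single a (1 : F)) (Pi.single b c)
      have h0 : Pi.single b c ⬝ᵥ Pi.single a (1 : F) = 0 := by simp [Pi.single_eq_of_ne hab]
      refine ⟨P * T * P⁻¹, hdetS P T (tv_mem_specialLinear _ _), fun hm => ?_⟩
      have hm' : T ∈ M₀ := by
        have := (hM _).1 (Subgroup.mem_inf.1 hm).1
        simpa [mul_assoc] using this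
      haveI := Cfsg.Geo.scalars_normal (ι := Fin n) (F := F)
      obtain ⟨y, hy, z, hz, hyz⟩ := Subgroup.mem_sup_of_normal_right.1 hm'
      obtain ⟨B, rfl⟩ := hy
      obtain ⟨s, hs⟩ := (Cfsg.Geo.mem_scalars_iff z).1 hz
      have hmat := congrArg Units.val hyz
      rw [Units.val_mul, hs, tv_coe h0, Matrix.mul_smul, Matrix.mul_one] at hmat
      have e1 := congrFun (congrFun hmat a) a
      have e2 := congrFun (congrFun hmat a) b
      simp [vecMulVec_apply, Matrix.one_apply, Pi.single_eq_of_ne hab, hab] at e1 e2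
      refine hc ?_
      have hs1 : (s : F) ∈ F₀ := by
        rw [eq_inv_of_mul_eq_one_left e1]; exact inv_mem (SetLike.coe_mem _)
      rw [← e2]
      exact mul_mem hs1 (SetLike.coe_mem _)
    intro M hMM hMS g hg hgM
    let L := M.comap (MulAut.conj P).toMonoidHom
    have hL : HasRat F₀ L := fun v φ hv hφ h0 => by
      show P * tv v φ * P⁻¹ ∈ M
      refine hMM (Subgroup.mem_inf.2 ⟨(hM _).2 ?_, hdetS P _ (tv_mem_specialLinear _ _)⟩)
      simpa [mul_assoc] using hratM v φ hv hφ h0
    set h := P⁻¹ * g * P with hh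
    have hhL : h ∈ L := by show P * h * P⁻¹ ∈ M; simpa [hh, mul_assoc] using hg
    have hhM : h ∉ M₀ := fun hm => hgM (Subgroup.mem_inf.2 ⟨(hM g).2 hm, hMS hg⟩)
    have hn4 : 4 ≤ Fintype.card (Fin n) := by rw [Fintype.card_fin]; omega
    obtain ⟨i, j, a, c, hij, hnr⟩ : ∃ i j a c, i ≠ j ∧
        (h : Matrix (Fin n) (Fin n) F) a i *
          ((h⁻¹ : Matrix.GeneralLinearGroup (Fin n) F) : Matrix (Fin n) (Fin n) F) j c ∉ F₀ := by
      by_contra hall
      push Not at hall
      obtain ⟨s, hs, hsr⟩ := rational_of_conj (by omega) h fun i j a c hij => hall i j a c hij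
      refine hhM ?_
      let B : Matrix (Fin n) (Fin n) F₀ := fun a b => ⟨_, hsr a b⟩
      have hB : B.map F₀.subtype = s⁻¹ • (h : Matrix (Fin n) (Fin n) F) := by
        ext a b; simp only [B, Matrix.map_apply, Matrix.smul_apply, smul_eq_mul]
        exact div_eq_inv_mul _ _
      have hBdet : B.det ≠ 0 := fun e => by
        have := congrArg Matrix.det hB
        rw [← RingHom.mapMatrix_apply, ← RingHom.map_det, e, map_zero, Matrix.det_smul] at this
        rcases mul_eq_zero.1 this.symm with h1 | h1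
        · exact hs (by simpa using eq_zero_of_pow_eq_zero h1)
        · exact (Matrix.isUnit_iff_isUnit_det _).1 h.isUnit |>.ne_zero h1
      have hsc : Units.map (Matrix.scalar (Fin n) : F →+* _).toMonoidHom (Units.mk0 s hs) ∈
          Cfsg.Geo.scalars (Fin n) F := ⟨_, rfl⟩
      have hB' : Matrix.GeneralLinearGroup.map (F₀.subtype : F₀ →+* F)
          (Matrix.GeneralLinearGroup.mkOfDetNeZero B hBdet) ∈ M₀ :=
        Subgroup.mem_sup_left ⟨_, rfl⟩
      convert mul_mem hB' (Subgroup.mem_sup_right hsc) using 1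
      refine Units.ext ?_
      show (h : Matrix (Fin n) (Fin n) F) = B.map F₀.subtype * Matrix.scalar (Fin n) s
      rw [hB, Matrix.scalar_apply, ← Matrix.smul_eq_mul_diagonal, smul_smul,
        mul_inv_cancel₀ hs, one_smul]
    have h0 : Pi.single j (1 : F) ⬝ᵥ Pi.single i (1 : F) = 0 := by simp [Pi.single_eq_of_ne hij]
    have hconj := mul_mem (mul_mem hhL
      (hL _ _ (isRat_single i (one_mem _)) (isRat_single j (one_mem _)) h0)) (inv_mem hhL)
    rw [tv_conj h h0] at hconj
    have hfull := Cfsg.Agent.SL4Geo66.full_of_tv htop hn4 hL hq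
      (by rw [vecMul_inv_dotProduct]; exact h0) hconj (i := a) (j := c) (by simpa using hnr)
    intro x hx
    have := hfull (hdetS P⁻¹ x hx)
    have h2 : P * (P⁻¹ * x * P⁻¹⁻¹) * P⁻¹ ∈ M := this
    simpa [mul_assoc] using h2)


/-- Subfield groups are maximal in `SL₄`. -/
theorem subfield_maximal {F : Type*} [Field F] [Fintype F] :
    ∀ (F₀ : Subfield F) (r : ℕ) (P : Matrix.GeneralLinearGroup (Fin 4) F), r.Prime → Fintype.card F = Nat.card F₀ ^ r → Cfsg.Geo.IsMaximalIn (Cfsg.Geo.specialLinear (Fin 4) F) (Cfsg.Geo.subfieldSubgroup F₀ P ⊓ Cfsg.Geo.specialLinear (Fin 4) F) :=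
  fun F₀ r P hr hc => subfield 4 le_rfl F₀ r hr hc P

end Cfsg.Agent.SL4Geo66
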