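import Cfsg.Agent.GeomMax32.Unitary

/-!
Similitudes of a unitary form are maximal in the special linear group, dimension four (helper60,
after `GeomMax32.Unitary`): the extra ingredient is a split torus fixing the centre.
-/

set_option autoImplicit false
set_option linter.unusedSectionVars false
open Cfsg

namespace Cfsg.Agent.SL4Geo66.Unitary

section Helpers

open Matrix Cfsg.Agent.MaxSub Cfsg.Agent.GeomMax32.Unitary

variable {ι : Type} [Fintype ι] [DecidableEq ι] {F : Type*} [Field F]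
variable {σ : F ≃+* F} {f : (ι → F) → (ι → F) → F}
variable (hf : Geo.IsUnitaryForm σ f)
include hf

theorem exists_rep (φ : ι → F) : ∃ y, rep f y = φ := by
  let T : (ι → F) →ₗ[F] (ι → F) :=
    { toFun := fun u i => σ (rep f u i)
      map_add' := fun a b => by funext i; simp [hrep_add hf]
      map_smul' := fun c a => by funext i; simp [hrep_smul hf, hf.involutive] }
  have hinj : Function.Injective T := by
    rw [injective_iff_map_eq_zero]
    intro u hu
    by_contra hu0
    obtain ⟨x, hx⟩ := (hf.nondegenerate u hu0).1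
    apply hx
    rw [← hrep_dot hf, show rep f u = 0 from funext fun i => by
      simpa [T] using congrFun hu i, zero_dotProduct]
  obtain ⟨y, hy⟩ := LinearMap.injective_iff_surjective.mp hinj (fun i => σ (φ i))
  exact ⟨y, funext fun i => σ.injective (congrFun hy i)⟩

/-- Some element is moved by `σ` together with its square. -/
theorem exists_sq_moved : ∃ a : F, a ≠ 0 ∧ σ (a * a) ≠ a * a := by
  by_contra hc
  simp only [not_exists, not_and, not_not] at hc
  have hsq : ∀ a : F, σ (a * a) = a * a := fun a => by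
    by_cases ha : a = 0
    · subst ha; simp
    · exact hc a ha
  refine hf.ne_refl (RingEquiv.ext fun a => ?_)
  show σ a = a
  by_cases h2 : (2 : F) = 0
  · have h := hsq a
    rw [map_mul] at h
    have h0 : (σ a - a) * (σ a - a) = 0 := by linear_combination h + (a * a - σ a * a) * h2
    exact sub_eq_zero.mp (mul_self_eq_zero.mp h0)
  · have h1 := hsq (a + 1)
    have h := hsq a
    simp only [map_mul, map_add, map_one] at h h1
    refine mul_left_cancel₀ h2 ?_
    linear_combination h1 - h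

/-- The torus element of a hyperbolic pair. -/
theorem exists_torus {p p' : ι → F} (hp : f p p = 0) (hp' : f p' p' = 0) (hpp : f p p' = 1)
    {a : F} (ha : a ≠ 0) :
    ∃ k : GL ι F, (k : Matrix ι ι F).det = a * (σ a)⁻¹ ∧ k ∈ isom f ∧
      (k : Matrix ι ι F) *ᵥ p = a • p ∧
      ∀ x, f x p = 0 → f x p' = 0 → (k : Matrix ι ι F) *ᵥ x = x := by
  have hpp' : f p' p = 1 := by rw [hf.herm, hpp, map_one]
  set b := (σ a)⁻¹ with hb
  have hb0 : σ a ≠ 0 := by simpa using ha
  let A : Matrix ι (Fin 2) F := Matrix.of fun i j => (![p, p'] j) i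
  let B : Matrix (Fin 2) ι F := Matrix.of fun j i => (![(a - 1) • rep f p', (b - 1) • rep f p] j) i
  have hval : ∀ x, (1 + A * B) *ᵥ x = x + ((a - 1) * f x p') • p + ((b - 1) * f x p) • p' := by
    intro x
    have hB0 : (B *ᵥ x) 0 = (a - 1) * f x p' := by
      show ((a - 1) • rep f p') ⬝ᵥ x = _
      rw [smul_dotProduct, hrep_dot hf, smul_eq_mul]
    have hB1 : (B *ᵥ x) 1 = (b - 1) * f x p := by
      show ((b - 1) • rep f p) ⬝ᵥ x = _
      rw [smul_dotProduct, hrep_dot hf, smul_eq_mul]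
    rw [add_mulVec, one_mulVec, ← mulVec_mulVec, add_assoc]
    congr 1
    funext i
    show (fun j => A i j) ⬝ᵥ (B *ᵥ x) = _
    rw [dotProduct, Fin.sum_univ_two, hB0, hB1]
    simp [A, mul_comm]
  have hBA : ∀ j l, (B * A) j l = (![(a - 1) • rep f p', (b - 1) • rep f p] j) ⬝ᵥ (![p, p'] l) :=
    fun j l => rfl
  have hdet : (1 + A * B).det = a * b := by
    rw [det_one_add_mul_comm, det_fin_two]
    simp only [Matrix.add_apply, hBA]
    simp [hrep_dot hf, hp, hp', hpp, hpp']
  have hne : (1 + A * B).det ≠ 0 := by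
    rw [hdet]; exact mul_ne_zero ha (inv_ne_zero hb0)
  refine ⟨GeneralLinearGroup.mkOfDetNeZero _ hne, hdet, fun x y => ?_, ?_, fun x h1 h2 => ?_⟩
  · show f ((1 + A * B) *ᵥ x) ((1 + A * B) *ᵥ y) = f x y
    have e1 : σ b = a⁻¹ := by rw [hb, map_inv₀, hf.involutive]
    rw [hval, hval]
    simp only [hf.add_left, hadd_right hf, hf.smul_left, hsmul_right hf, hp, hp', hpp, hpp',
      map_mul, map_sub, map_one, e1, ← hf.herm p y, ← hf.herm p' y]
    have ea : a * a⁻¹ = 1 := mul_inv_cancel₀ ha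
    have eb : σ a * b = 1 := by rw [hb]; exact mul_inv_cancel₀ hb0
    linear_combination (f x p' * f p y) * ea + (f x p * f p' y) * eb
  · show (1 + A * B) *ᵥ p = _
    rw [hval, hp, hpp, mul_zero, zero_smul, add_zero, mul_one, sub_smul, one_smul, add_sub_cancel]
  · show (1 + A * B) *ᵥ x = _
    rw [hval, h1, h2, mul_zero, mul_zero, zero_smul, zero_smul, add_zero, add_zero]

theorem notMem_span {v v' x : ι → F} (hvv : f v v = 0) (hv'v' : f v' v' = 0) (hvv' : f v v' = 1)
    (hxv : f x v = 0) (hxv' : f x v' = 0) (hx : x ≠ 0) :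
    x ∉ Submodule.span F ({v, v'} : Set (ι → F)) := fun h => by
  obtain ⟨r, s, rfl⟩ := Submodule.mem_span_pair.mp h
  have hv'v : f v' v = 1 := by rw [hf.herm, hvv', map_one]
  rw [hf.add_left, hf.smul_left, hf.smul_left, hvv, hv'v, mul_zero, zero_add, mul_one] at hxv
  rw [hf.add_left, hf.smul_left, hf.smul_left, hvv', hv'v', mul_zero, add_zero, mul_one] at hxv'
  exact hx (by rw [hxv, hxv', zero_smul, zero_smul, add_zero])

variable [Finite F] (h4 : Fintype.card ι = 4)
include h4

/-- An isotropic partner orthogonal to a hyperbolic pair. -/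
theorem exists_partner {v v' x : ι → F} (hvv : f v v = 0) (hv'v' : f v' v' = 0)
    (hvv' : f v v' = 1) (hxv : f x v = 0) (hxv' : f x v' = 0) (hx : x ≠ 0) :
    ∃ z, f z v = 0 ∧ f z v' = 0 ∧ f z z = 0 ∧ f z x = 1 := by
  have hv'v : f v' v = 1 := by rw [hf.herm, hvv', map_one]
  have hnot := notMem_span hf hvv hv'v' hvv' hxv hxv' hx
  obtain ⟨z₀, hz1, hz2⟩ := exists_dual hf hnot
  have hzv : f z₀ v = 0 := (hz2 v (Submodule.subset_span (by simp))).1
  have hzv' : f z₀ v' = 0 := (hz2 v' (Submodule.subset_span (by simp))).1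
  by_cases h00 : f z₀ z₀ = 0
  · exact ⟨z₀, hzv, hzv', h00, hz1⟩
  let L : (ι → F) →ₗ[F] (Fin 3 → F) := LinearMap.pi ![hl hf v, hl hf v', hl hf z₀]
  obtain ⟨u, hu, hu0⟩ : ∃ u ∈ LinearMap.ker L, u ≠ 0 := by
    refine Submodule.exists_mem_ne_zero_of_ne_bot fun hb => ?_
    have h2 := LinearMap.finrank_range_add_finrank_ker L
    have h3 := Submodule.finrank_le (LinearMap.range L)
    rw [hb] at h2
    simp at h2 h3
    omega
  have huv : f u v = 0 := by simpa [L] using congrFun hu 0
  have huv' : f u v' = 0 := by simpa [L] using congrFun hu 1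
  have huz : f u z₀ = 0 := by simpa [L] using congrFun hu 2
  have huu : f u u ≠ 0 := by
    intro h
    obtain ⟨y, hy⟩ := (hf.nondegenerate u hu0).2
    refine hy ?_
    have hli : LinearIndependent F ![v, v', z₀, u] := by
      rw [Fintype.linearIndependent_iff]
      intro g hg
      simp only [Fin.sum_univ_four] at hg
      simp at hg
      have key : ∀ t, g 0 * f v t + g 1 * f v' t + g 2 * f z₀ t + g 3 * f u t = 0 := fun t => by
        rw [← hzero_left hf t, ← hg]
        simp only [hf.add_left, hf.smul_left]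
      have g1 : g 1 = 0 := by simpa [hvv, hv'v, hzv, huv] using key v
      have g0 : g 0 = 0 := by simpa [hvv', hv'v', hzv', huv'] using key v'
      have g2 : g 2 = 0 := by
        simpa [hswap_zero hf hzv, hswap_zero hf hzv', huz, h00] using key z₀
      have g3 : g 3 = 0 := by
        rw [g0, g1, g2, zero_smul, zero_smul, zero_smul, zero_add, zero_add, zero_add,
          smul_eq_zero] at hg
        exact hg.resolve_right hu0
      intro i
      fin_cases i <;> assumption
    have hspan := hli.span_eq_top_of_card_eq_finrank (by simp [h4])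
    have hker : (⊤ : Submodule F (ι → F)) ≤ LinearMap.ker (hl hf u) := by
      rw [← hspan, Submodule.span_le]
      rintro _ ⟨i, rfl⟩
      fin_cases i <;> simp [hswap_zero hf huv, hswap_zero hf huv', hswap_zero hf huz, h]
    exact hswap_zero hf (LinearMap.mem_ker.mp (hker (Submodule.mem_top (x := y))))
  have hfix : ∀ w : ι → F, σ (f w w) = f w w := fun w => (hf.herm w w).symm
  obtain ⟨s, hs⟩ := exists_norm hf (r := -f z₀ z₀ / f u u)
    (by rw [map_div₀, map_neg, hfix, hfix])
  have hs' : σ s * s * f u u = -f z₀ z₀ := by rw [hs, div_mul_cancel₀ _ huu]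
  obtain ⟨a, ha, hmoved⟩ := exists_sq_moved hf
  have hσa : σ a ≠ 0 := by simpa using ha
  set ν := a / σ a with hν
  have hν1 : σ ν * ν = 1 := by
    rw [hν, map_div₀, hf.involutive]
    field_simp
  have hiso : ∀ t, σ t * t = σ s * s → f (z₀ + t • u) (z₀ + t • u) = 0 := fun t ht => by
    rw [hf.add_left, hadd_right hf, hadd_right hf, hf.smul_left, hsmul_right hf, hf.smul_left,
      hsmul_right hf, huz, hswap_zero hf huz]
    linear_combination (f u u) * ht + hs'
  have hmain : ∀ t, σ t * t = σ s * s → 1 + t * f u x ≠ 0 →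
      ∃ z, f z v = 0 ∧ f z v' = 0 ∧ f z z = 0 ∧ f z x = 1 := fun t ht hne => by
    refine ⟨(1 + t * f u x)⁻¹ • (z₀ + t • u), ?_, ?_, ?_, ?_⟩
    · simp [hf.smul_left, hf.add_left, hzv, huv]
    · simp [hf.smul_left, hf.add_left, hzv', huv']
    · rw [hf.smul_left, hsmul_right hf, hiso t ht, mul_zero, mul_zero]
    · rw [hf.smul_left, hf.add_left, hf.smul_left, hz1, inv_mul_cancel₀ hne]
  by_cases h1 : 1 + s * f u x = 0
  · refine hmain (ν * s) (by rw [map_mul]; linear_combination (σ s * s) * hν1) fun h2 => ?_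
    have h3 : ν = 1 := by linear_combination (ν * h1 - h2)
    refine hmoved ?_
    rw [hν, div_eq_one_iff_eq hσa] at h3
    rw [map_mul, ← h3]
  · exact hmain s rfl h1

/-- Every vector of a hyperplane is a sum of isotropic vectors of that hyperplane. -/
theorem split4 {φ x : ι → F} (hx : φ ⬝ᵥ x = 0) :
    ∃ a b, φ ⬝ᵥ a = 0 ∧ φ ⬝ᵥ b = 0 ∧ f a a = 0 ∧ f b b = 0 ∧ x = a + b := by
  by_cases hxx : f x x = 0
  · exact ⟨x, 0, hx, dotProduct_zero φ, hxx, hzero_left hf 0, (add_zero x).symm⟩
  obtain ⟨y, rfl⟩ := exists_rep hf φ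
  obtain ⟨z, hz, hzz⟩ := exists_iso_vec hf ![y, x] (by omega) x (j := 1) (by simpa using hxx)
  have hxy : f x y = 0 := by rw [← hrep_dot hf]; exact hx
  have hz1 : rep f y ⬝ᵥ z = 0 := by
    rw [hrep_dot hf]
    have h := hz 0
    simpa [hxy] using h
  have hz2 : f z x = f x x := by simpa using hz 1
  obtain ⟨t, ht⟩ := exists_trace hf (r := -f x x)
    (by rw [map_neg, ← hf.herm])
  set μ := t / f x x with hμ
  refine ⟨x + μ • z, -(μ • z), by simp [dotProduct_add, hx, hz1], by simp [hz1], ?_, ?_, by simp⟩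
  · rw [hf.add_left, hadd_right hf, hadd_right hf, hf.smul_left, hsmul_right hf, hf.smul_left,
      hsmul_right hf, hzz, hf.herm x z, hz2, ← map_mul, hμ, div_mul_cancel₀ _ hxx]
    linear_combination ht
  · rw [← neg_smul, hf.smul_left, hsmul_right hf, hzz, mul_zero, mul_zero]

variable {M : Subgroup (GL ι F)} (hM : isom f ⊓ Geo.specialLinear ι F ≤ M)
include hM

omit [Finite F] h4 in
theorem ut_mem {v : ι → F} {c : F} (hv : f v v = 0) (hc : c + σ c = 0) : ut f v c ∈ M :=
  hM ⟨ut_mem_isom hf hv hc, tv_mem_specialLinear _ _⟩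

omit [Finite F] h4 in
theorem line_mem' {v x z : ι → F} (hx : x ∈ repSet hf M v) (hz : f z z = 0) (hzv : f v z = 0)
    {c : F} (hc : c + σ c = 0) : (c * f x z) • z ∈ repSet hf M v := by
  have h1 : rep f ((ut f z c : Matrix ι ι F) *ᵥ x) ∈ dualSet M v := by
    have h := conj_mem_dualSet (ut_mem hf hM hz hc) (show rep f x ∈ dualSet M v from hx)
    rwa [hrep_vecMul_inv hf (ut_mem_isom hf hz hc), ut_mulVec hf hz c v, hzv, mul_zero,
      zero_smul, add_zero] at h
  have h2 : rep f (-x + (ut f z c : Matrix ι ι F) *ᵥ x) ∈ dualSet M v :=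
    add_mem (neg_mem (show x ∈ repSet hf M v from hx)) (show _ ∈ repSet hf M v from h1)
  rw [ut_mulVec hf hz] at h2
  show rep f _ ∈ dualSet M v
  simpa using h2

omit [Finite F] h4 in
/-- The torus moves a vector of the dual set. -/
theorem torus_mem {v v' e e' : ι → F} (hvv : f v v = 0) (hv'v' : f v' v' = 0) (hvv' : f v v' = 1)
    (hee : f e e = 0) (he'e' : f e' e' = 0) (hee' : f e e' = 1) (hev : f e v = 0)
    (hev' : f e v' = 0) (he'v : f e' v = 0) {a r : F} (ha : a ≠ 0)
    (h : r • e ∈ repSet hf M v) : (a * r / σ a) • e ∈ repSet hf M v := by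
  obtain ⟨k₁, hd₁, hi₁, hk₁, hfix₁⟩ := exists_torus hf hvv hv'v' hvv' (inv_ne_zero ha)
  obtain ⟨k₂, hd₂, hi₂, hk₂, hfix₂⟩ := exists_torus hf hee he'e' hee' ha
  have hσa : σ a ≠ 0 := by simpa using ha
  have hk : k₁ * k₂ ∈ M := by
    refine hM ⟨mul_mem hi₁ hi₂, ?_⟩
    show Matrix.GeneralLinearGroup.det (k₁ * k₂) = 1
    refine Units.ext ?_
    rw [map_mul, Units.val_mul, GeneralLinearGroup.val_det_apply,
      GeneralLinearGroup.val_det_apply, hd₁, hd₂, Units.val_one, map_inv₀, inv_inv]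
    field_simp
  have hkv : ((k₁ * k₂ : GL ι F) : Matrix ι ι F) *ᵥ v = a⁻¹ • v := by
    rw [Units.val_mul, ← mulVec_mulVec, hfix₂ v (hswap_zero hf hev) (hswap_zero hf he'v), hk₁]
  have hke : ((k₁ * k₂ : GL ι F) : Matrix ι ι F) *ᵥ (r • e) = (a * r) • e := by
    rw [Units.val_mul, ← mulVec_mulVec, mulVec_smul, hk₂, mulVec_smul, mulVec_smul,
      hfix₁ e hev hev', smul_smul, mul_comm r a]
  have h1 := conj_mem_dualSet hk (show rep f (r • e) ∈ dualSet M v from h)
  rw [hrep_vecMul_inv hf (mul_mem hi₁ hi₂), hkv, hke] at h1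
  have h2 : (rep f ((a * r) • e)) ⬝ᵥ v = 0 := by
    rw [hrep_dot hf, hsmul_right hf, hswap_zero hf hev, mul_zero]
  show rep f ((a * r / σ a) • e) ∈ dualSet M v
  rw [show rep f ((a * r / σ a) • e) = a⁻¹ • rep f ((a * r) • e) by
    rw [hrep_smul hf, hrep_smul hf, smul_smul, map_div₀, hf.involutive]; congr 1; field_simp]
  refine ⟨by rw [smul_dotProduct, h2, smul_zero], ?_⟩
  rw [← tv_smul_comm _ h2]
  exact h1.2

variable {c₀ : F} (hc₀ : c₀ ≠ 0) (hskew : c₀ + σ c₀ = 0)
include hc₀ hskew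

/-- An isotropic centre with a foreign axis has every axis. -/
theorem dual_full4 {v w : ι → F} (hw : rep f w ∈ dualSet M v) (hv0 : v ≠ 0) (hvv : f v v = 0)
    (hwv : w ∉ Submodule.span F {v}) (φ : ι → F) (hφ : φ ⬝ᵥ v = 0) : φ ∈ dualSet M v := by
  have hwv0 : f w v = 0 := hswap_zero hf (by rw [← hrep_dot hf]; exact hw.1)
  obtain ⟨v', hv'1, hv'v', -⟩ := exists_iso_dual hf (U := ⊥) (a := v) (by simpa using hv0)
    (![] : Fin 0 → ι → F) (by simp) (by omega)
  have hvv' : f v v' = 1 := by rw [hf.herm, hv'1, map_one]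
  -- the part of `w` orthogonal to the hyperbolic pair
  set w₁ := w - f w v' • v with hw₁
  have hw₁v : f w₁ v = 0 := by rw [hw₁, hsub_left hf, hf.smul_left, hwv0, hvv, mul_zero, sub_zero]
  have hw₁v' : f w₁ v' = 0 := by rw [hw₁, hsub_left hf, hf.smul_left, hvv', mul_one, sub_self]
  have hw₁0 : w₁ ≠ 0 := fun h => hwv (Submodule.mem_span_singleton.mpr
    ⟨f w v', (sub_eq_zero.mp h).symm⟩)
  obtain ⟨z, hzv, hzv', hzz, hzw₁⟩ := exists_partner hf h4 hvv hv'v' hvv' hw₁v hw₁v' hw₁0
  have hwz : f w z = 1 := by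
    have h : f z w = 1 := by
      rw [hw₁, hsub_right hf, hsmul_right hf, hzv, mul_zero, sub_zero] at hzw₁
      exact hzw₁
    rw [hf.herm, h, map_one]
  have hw' : w ∈ repSet hf M v := hw
  have hmult : ∀ a : F, (c₀ * 1) • (z + a • v) ∈ repSet hf M v := fun a => by
    have h := line_mem' hf hM hw' (z := z + a • v) (c := c₀) ?_ ?_ hskew
    · rwa [hadd_right hf, hsmul_right hf, hwv0, mul_zero, add_zero, hwz] at h
    · rw [hf.add_left, hadd_right hf, hadd_right hf, hzz, hf.smul_left, hsmul_right hf,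
        hf.smul_left, hsmul_right hf, hvv, hzv, hswap_zero hf hzv]
      simp
    · rw [hadd_right hf, hsmul_right hf, hvv, hswap_zero hf hzv, mul_zero, add_zero]
  have hFv : ∀ t : F, t • v ∈ repSet hf M v := fun t => by
    have h := sub_mem (hmult (t / c₀)) (hmult 0)
    rwa [mul_one, zero_smul, add_zero, smul_add, add_sub_cancel_left, smul_smul,
      mul_div_cancel₀ _ hc₀] at h
  set e := c₀ • z with he
  have hee : f e e = 0 := by rw [he, hf.smul_left, hsmul_right hf, hzz, mul_zero, mul_zero]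
  have hev : f e v = 0 := by rw [he, hf.smul_left, hzv, mul_zero]
  have hev' : f e v' = 0 := by rw [he, hf.smul_left, hzv', mul_zero]
  have heR : e ∈ repSet hf M v := by simpa [he] using hmult 0
  have he0 : e ≠ 0 := by
    rw [he, smul_ne_zero_iff]
    exact ⟨hc₀, fun h => by rw [h, hzero_left hf] at hzw₁; exact zero_ne_one hzw₁⟩
  obtain ⟨e', he'v, he'v', he'e', he'e⟩ := exists_partner hf h4 hvv hv'v' hvv' hev hev' he0
  have hee' : f e e' = 1 := by rw [hf.herm, he'e, map_one]
  have hskew_e' : ∀ c, c + σ c = 0 → c • e' ∈ repSet hf M v := fun c hc => by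
    have h := line_mem' hf hM heR he'e' (hswap_zero hf he'v) hc
    rwa [hee', mul_one] at h
  have hσc₀ : σ c₀ = -c₀ := eq_neg_of_add_eq_zero_right hskew
  have hfixed : ∀ r : F, σ r = r → r • e ∈ repSet hf M v := fun r hr => by
    have hc : r / c₀ + σ (r / c₀) = 0 := by rw [map_div₀, hr, hσc₀, div_neg, add_neg_cancel]
    have h := line_mem' hf hM (hskew_e' _ hc) hee (hswap_zero hf hev) hskew
    rwa [hf.smul_left, he'e, mul_one, mul_div_cancel₀ _ hc₀] at h
  obtain ⟨a, ha, hmoved⟩ := exists_sq_moved hf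
  have hσa : σ a ≠ 0 := by simpa using ha
  have hFe : ∀ t : F, t • e ∈ repSet hf M v := by
    intro t
    have hne : a / σ a - σ a / a ≠ 0 := by
      intro h
      refine hmoved ?_
      field_simp at h
      rw [map_mul]
      linear_combination -h
    set β := (t - σ t) / (a / σ a - σ a / a) with hβ
    have hβ1 : σ β = β := by
      rw [hβ, map_div₀, map_sub, map_sub, map_div₀, map_div₀, hf.involutive, hf.involutive,
        ← neg_sub t (σ t), ← neg_sub (a / σ a) (σ a / a), neg_div_neg_eq]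
    have hβ2 : β * (a / σ a - σ a / a) = t - σ t := by rw [hβ, div_mul_cancel₀ _ hne]
    have hα : σ (t - β * (a / σ a)) = t - β * (a / σ a) := by
      rw [map_sub, map_mul, hβ1, map_div₀, hf.involutive]
      linear_combination hβ2
    have h := add_mem (hfixed _ hα)
      (torus_mem hf hM hvv hv'v' hvv' hee he'e' hee' hev hev' he'v ha (hfixed β hβ1))
    rwa [← add_smul, show t - β * (a / σ a) + a * β / σ a = t by ring] at h
  have hFe' : ∀ t : F, t • e' ∈ repSet hf M v := fun t => by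
    have h := line_mem' hf hM (hFe (t / c₀)) he'e' (hswap_zero hf he'v) hskew
    rwa [hf.smul_left, hee', mul_one, mul_div_cancel₀ _ hc₀] at h
  obtain ⟨x, rfl⟩ := exists_rep hf φ
  rw [hrep_dot hf] at hφ
  have hxv : f x v = 0 := hswap_zero hf hφ
  suffices h : x = f x v' • v + f x e' • e + f x e • e' by
    show x ∈ repSet hf M v
    rw [h]
    exact add_mem (add_mem (hFv _) (hFe _)) (hFe' _)
  have hv'v : f v' v = 1 := hv'1
  set y := x - (f x v' • v + f x e' • e + f x e • e') with hy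
  refine sub_eq_zero.mp ?_
  show y = 0
  have hyv : f y v = 0 := by
    simp [hy, hsub_left hf, hf.add_left, hf.smul_left, hxv, hvv, hev, he'v]
  have hyv' : f y v' = 0 := by
    simp [hy, hsub_left hf, hf.add_left, hf.smul_left, hvv', hev', he'v']
  have hye : f y e = 0 := by
    simp [hy, hsub_left hf, hf.add_left, hf.smul_left, hswap_zero hf hev, hee, he'e]
  have hye' : f y e' = 0 := by
    simp [hy, hsub_left hf, hf.add_left, hf.smul_left, hswap_zero hf he'v, hee', he'e']
  by_contra hy0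
  obtain ⟨u, hu⟩ := (hf.nondegenerate y hy0).2
  refine hu ?_
  have hli : LinearIndependent F ![v, v', e, e'] := by
    rw [Fintype.linearIndependent_iff]
    intro g hg
    simp only [Fin.sum_univ_four] at hg
    simp at hg
    have key : ∀ t, g 0 * f v t + g 1 * f v' t + g 2 * f e t + g 3 * f e' t = 0 := fun t => by
      rw [← hzero_left hf t, ← hg]
      simp only [hf.add_left, hf.smul_left]
    have g1 : g 1 = 0 := by simpa [hvv, hv'v, hev, he'v] using key v
    have g0 : g 0 = 0 := by simpa [hvv', hv'v', hev', he'v'] using key v'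
    have g2 : g 2 = 0 := by
      simpa [hswap_zero hf he'v, hswap_zero hf he'v', hee', he'e'] using key e'
    have g3 : g 3 = 0 := by
      simpa [hswap_zero hf hev, hswap_zero hf hev', hee, he'e] using key e
    intro i
    fin_cases i <;> assumption
  have hspan := hli.span_eq_top_of_card_eq_finrank (by simp [h4])
  have hker : (⊤ : Submodule F (ι → F)) ≤ LinearMap.ker (hl hf y) := by
    rw [← hspan, Submodule.span_le]
    rintro _ ⟨i, rfl⟩
    fin_cases i <;>
      simp [hswap_zero hf hyv, hswap_zero hf hyv', hswap_zero hf hye, hswap_zero hf hye']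
  exact hswap_zero hf (LinearMap.mem_ker.mp (hker (Submodule.mem_top (x := u))))

theorem main4 {g : GL ι F} (hg : g ∈ M) (hgn : g ∉ Geo.similarityGroup f) :
    Geo.specialLinear ι F ≤ M := by
  have hconn : ∀ a b : ι → F, a ≠ 0 → b ≠ 0 →
      ∃ z, z ≠ 0 ∧ f z z = 0 ∧ f z a ≠ 0 ∧ f z b ≠ 0 := by
    intro a b ha hb
    obtain ⟨x, hx1⟩ := (hf.nondegenerate a ha).1
    obtain ⟨y, hy1⟩ := (hf.nondegenerate b hb).1
    obtain ⟨z₀, -, h1, h2⟩ := exists_mem_notMem_notMem (P := (⊤ : Submodule F (ι → F)))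
      (Q := LinearMap.ker (hl hf a)) (R := LinearMap.ker (hl hf b))
      ⟨x, Submodule.mem_top, by simpa using hx1⟩ ⟨y, Submodule.mem_top, by simpa using hy1⟩
    obtain ⟨z, hz, hzz⟩ := exists_iso_vec hf ![a, b] (by omega) z₀ (j := 0) (by simpa using h1)
    have e1 : f z a = f z₀ a := by simpa using hz 0
    have e2 : f z b = f z₀ b := by simpa using hz 1
    have h1' : f z a ≠ 0 := by rw [e1]; simpa using h1
    exact ⟨z, fun h => h1' (by rw [h, hzero_left hf]), hzz, h1', by rw [e2]; simpa using h2⟩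
  -- an isotropic centre with a foreign axis
  obtain ⟨v, hv0, hvv, w, hw, hwv⟩ : ∃ v, v ≠ 0 ∧ f v v = 0 ∧ ∃ w,
      rep f w ∈ dualSet M v ∧ w ∉ Submodule.span F {v} := by
    by_contra hc
    simp only [not_exists, not_and, not_not] at hc
    have himage : ∀ u, u ≠ 0 → f u u = 0 → ∃ μ : F,
        ∀ x, f ((g : Matrix ι ι F) *ᵥ x) ((g : Matrix ι ι F) *ᵥ u) = μ * f x u := by
      intro u hu huu
      set u' := (g : Matrix ι ι F) *ᵥ u
      have h1 := conj_mem_dualSet hg
        (show c₀ • rep f u ∈ dualSet M u from ⟨ut_dot hf huu c₀, ut_mem hf hM huu hskew⟩)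
      obtain ⟨w, hw⟩ := exists_rep hf ((c₀ • rep f u) ᵥ* ((g⁻¹ : GL ι F) : Matrix ι ι F))
      rw [← hw] at h1
      have hu' : u' ≠ 0 := mulVec_ne_zero g hu
      have hw0 : w ≠ 0 := fun h0 => by
        obtain ⟨x, hx⟩ := (hf.nondegenerate u hu).1
        have h := congrArg (fun φ => φ ⬝ᵥ ((g : Matrix ι ι F) *ᵥ x)) hw
        simp only [vecMul_inv_dotProduct, h0, hrep_zero hf, zero_dotProduct, smul_dotProduct,
          hrep_dot hf, smul_eq_mul] at h
        exact mul_ne_zero hc₀ hx h.symm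
      have hwu : f u' w = 0 := by rw [← hrep_dot hf]; exact h1.1
      have huu' : f u' u' = 0 := by
        by_contra hne
        -- commute with an isotropic transvection to move the centre
        have hnot : u' ∉ Submodule.span F {w} := fun h => by
          obtain ⟨r, hr⟩ := Submodule.mem_span_singleton.mp h
          apply hne
          nth_rewrite 2 [← hr]
          rw [hsmul_right hf, hwu, mul_zero]
        obtain ⟨z, hz1, hz2, hz3⟩ := exists_iso_dual hf hnot ![w] (span_one_eq hf w) (by omega)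
        have hzw : f z w = 0 := (hz3 w (Submodule.mem_span_singleton_self w)).1
        have hz0 : z ≠ 0 := fun h0 => by rw [h0, hzero_left hf] at hz1; exact zero_ne_one hz1
        have hzu : (c₀ • rep f z) ⬝ᵥ u' = c₀ := by
          rw [smul_dotProduct, hrep_dot hf, hf.herm, hz1, map_one, smul_eq_mul, mul_one]
        have h2 := comm_mem_dualSet (⟨ut_dot hf hz2 c₀, ut_mem hf hM hz2 hskew⟩ :
          c₀ • rep f z ∈ dualSet M z) h1 (by rw [hrep_dot hf, hzw])
        rw [hzu, ← hf.involutive c₀, ← hrep_smul hf] at h2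
        obtain ⟨r, hr⟩ := Submodule.mem_span_singleton.mp (hc z hz0 hz2 _ h2)
        have h3 : f (r • z) u' = 0 := by
          rw [hr, hf.smul_left, hswap_zero hf hwu, mul_zero]
        rw [hf.smul_left, hz1, mul_one] at h3
        rw [h3, zero_smul, eq_comm, smul_eq_zero] at hr
        exact hr.elim (by simpa using hc₀) hw0
      obtain ⟨r, hr⟩ := Submodule.mem_span_singleton.mp (hc u' hu' huu' w h1)
      have hr0 : r ≠ 0 := fun h => hw0 (by rw [← hr, h, zero_smul])
      refine ⟨c₀ / σ r, fun x => ?_⟩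
      have h := congrArg (fun φ => φ ⬝ᵥ ((g : Matrix ι ι F) *ᵥ x)) hw
      simp only [← hr, hrep_smul hf, smul_dotProduct, vecMul_inv_dotProduct,
        hrep_dot hf, smul_eq_mul] at h
      rw [div_mul_eq_mul_div, eq_div_iff (by simpa using hr0), mul_comm]
      exact h
    choose μ hμ using himage
    -- all multipliers agree
    have hpair : ∀ a b, ∀ (ha : a ≠ 0) (ha' : f a a = 0) (hb : b ≠ 0) (hb' : f b b = 0),
        f a b ≠ 0 → μ b hb hb' = σ (μ a ha ha') := by
      intro a b ha ha' hb hb' hab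
      have h1 := hμ b hb hb' a
      rw [hf.herm, hμ a ha ha' b, map_mul, ← hf.herm a b] at h1
      exact (mul_right_cancel₀ hab h1).symm
    have hsame : ∀ a b, ∀ (ha : a ≠ 0) (ha' : f a a = 0) (hb : b ≠ 0) (hb' : f b b = 0),
        μ a ha ha' = μ b hb hb' := by
      intro a b ha ha' hb hb'
      obtain ⟨z, hz0, hzz, h1, h2⟩ := hconn a b ha hb
      rw [hpair z a hz0 hzz ha ha' h1, hpair z b hz0 hzz hb hb' h2]
    -- some isotropic vector
    obtain ⟨x₀, hx₀⟩ : ∃ x : ι → F, x ≠ 0 := by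
      have : Nonempty ι := Fintype.card_pos_iff.mp (by omega)
      exact exists_ne 0
    obtain ⟨e, he0, hee, -, -⟩ := hconn x₀ x₀ hx₀ hx₀
    have hall : ∀ x y, f ((g : Matrix ι ι F) *ᵥ x) ((g : Matrix ι ι F) *ᵥ y) =
        μ e he0 hee * f x y := by
      intro x y
      obtain ⟨a, b, -, -, haa, hbb, rfl⟩ :=
        split4 hf h4 (φ := (0 : ι → F)) (x := y) (zero_dotProduct y)
      have h1 : ∀ a, f a a = 0 → f ((g : Matrix ι ι F) *ᵥ x) ((g : Matrix ι ι F) *ᵥ a) =
          μ e he0 hee * f x a := fun a haa => by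
        by_cases ha : a = 0
        · rw [ha, mulVec_zero, hzero_right hf, hzero_right hf, mul_zero]
        · rw [hμ a ha haa x, hsame a e ha haa he0 hee]
      rw [mulVec_add, hadd_right hf, hadd_right hf, h1 a haa, h1 b hbb, mul_add]
    have hne : μ e he0 hee ≠ 0 := fun h0 => by
      obtain ⟨x, hx⟩ := (hf.nondegenerate _ (mulVec_ne_zero g he0)).1
      rw [← mulVec_inv_mulVec g x, hall, h0, zero_mul] at hx
      exact hx rfl
    exact hgn ⟨Units.mk0 _ hne, hall⟩
  have hfull := dual_full4 hf h4 hM hc₀ hskew hw hv0 hvv hwv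
  -- isotropic centres next to `v`
  have hstep : ∀ a, (∀ φ, φ ⬝ᵥ a = 0 → φ ∈ dualSet M a) → ∀ u, f u u = 0 → f a u ≠ 0 →
      ∀ φ, φ ⬝ᵥ u = 0 → φ ∈ dualSet M u := by
    intro a ha u huu hau
    have hu0 : u ≠ 0 := fun h => hau (by rw [h, hzero_right hf])
    let L : (ι → F) →ₗ[F] (Fin 2 → F) := LinearMap.pi ![hl hf u, hl hf a]
    obtain ⟨y, hy, hyu⟩ : ∃ y ∈ LinearMap.ker L, y ∉ Submodule.span F {u} := by
      refine SetLike.not_le_iff_exists.mp fun hle => ?_
      have h1 := Submodule.finrank_mono hle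
      have h2 := LinearMap.finrank_range_add_finrank_ker L
      have h3 := Submodule.finrank_le (LinearMap.range L)
      rw [finrank_span_singleton hu0] at h1
      simp at h2 h3
      omega
    have hyu' : f y u = 0 := by simpa [L] using congrFun hy 0
    have hya : f y a = 0 := by simpa [L] using congrFun hy 1
    have h1 := comm_mem_dualSet (⟨ut_dot hf huu c₀, ut_mem hf hM huu hskew⟩ :
      c₀ • rep f u ∈ dualSet M u)
      (ha _ (show rep f y ⬝ᵥ a = 0 by rw [hrep_dot hf, hswap_zero hf hya]))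
      (by rw [hrep_dot hf, hswap_zero hf hyu'])
    rw [smul_dotProduct, hrep_dot hf, smul_eq_mul, ← hf.involutive (c₀ * f a u),
      ← hrep_smul hf] at h1
    refine dual_full4 hf h4 hM hc₀ hskew h1 hu0 huu fun h => hyu ?_
    have hne : σ (c₀ * f a u) ≠ 0 := by simpa using mul_ne_zero hc₀ hau
    have h2 := Submodule.smul_mem _ (σ (c₀ * f a u))⁻¹ h
    rwa [smul_smul, inv_mul_cancel₀ hne, one_smul] at h2
  have hiso : ∀ u, f u u = 0 → ∀ φ, φ ⬝ᵥ u = 0 → φ ∈ dualSet M u := by
    intro u huu φ hφ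
    by_cases hu0 : u = 0
    · subst hu0; exact ⟨hφ, by rw [tv_zero_left]; exact one_mem M⟩
    obtain ⟨z, -, hzz, h1, h2⟩ := hconn v u hv0 hu0
    exact hstep z (hstep v hfull z hzz (hswap_ne_zero hf h1)) u huu h2 φ hφ
  refine specialLinear_le_of_tv_mem fun u φ hφ => ?_
  obtain ⟨a, b, ha, hb, haa, hbb, rfl⟩ := split4 hf h4 hφ
  exact (add_mem (mem_centreSet.mpr (hiso a haa φ ha)) (mem_centreSet.mpr (hiso b hbb φ hb))
    : a + b ∈ centreSet M φ).2

end Helpers

end Cfsg.Agent.SL4Geo66.Unitary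

namespace Cfsg.Agent.SL4Geo66

open Matrix Cfsg.Agent.MaxSub Cfsg.Agent.GeomMax32.Unitary

/-- The similitudes of a unitary form are maximal in `SL₄`. -/
theorem unitary_maximal {F : Type*} [Field F] [Fintype F] :
    ∀ (σ : F ≃+* F) (f : (Fin 4 → F) → (Fin 4 → F) → F), Cfsg.Geo.IsUnitaryForm σ f → Cfsg.Geo.IsMaximalIn (Cfsg.Geo.specialLinear (Fin 4) F) (Cfsg.Geo.similarityGroup f ⊓ Cfsg.Geo.specialLinear (Fin 4) F) := by
  intro σ f hf
  obtain ⟨c₀, hc₀, hskew⟩ := exists_skew hf
  refine isMaximalIn_of inf_le_right ?_ fun M hHM hMK g hg hgH => ?_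
  · -- a transvection which is not a similitude
    obtain ⟨v, hv1, hvv, -⟩ := exists_iso_dual hf (U := ⊥) (a := (Pi.single 0 1 : Fin 4 → F))
      (by simp) (![] : Fin 0 → Fin 4 → F) (by simp) (by simp)
    have hv0 : v ≠ 0 := fun h => by simp [h, hzero_left hf] at hv1
    obtain ⟨y, hy⟩ := (hf.nondegenerate v hv0).2
    -- `φ` kills `v` and `y` and is non-zero
    obtain ⟨φ, hφ, x, hφx⟩ : ∃ φ : Fin 4 → F,
        (φ ⬝ᵥ v = 0 ∧ φ ⬝ᵥ y = 0) ∧ ∃ x, φ ⬝ᵥ x = 1 := by
      have hlt : Submodule.span F (Set.range ![v, y]) < ⊤ := by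
        refine lt_top_iff_ne_top.mpr fun h => ?_
        have h4 := finrank_range_le_card (R := F) ![v, y]
        rw [Set.finrank, h, finrank_top] at h4
        simp at h4
      obtain ⟨x, -, hx⟩ := SetLike.exists_of_lt hlt
      obtain ⟨φ, hφ, hφx⟩ := exists_annihilator hx
      exact ⟨φ, ⟨hφ v (Submodule.subset_span ⟨0, rfl⟩), hφ y (Submodule.subset_span ⟨1, rfl⟩)⟩,
        x, hφx⟩
    refine ⟨tv v φ, tv_mem_specialLinear v φ, fun hmem => ?_⟩
    obtain ⟨c, hc⟩ := hmem.1
    have key : ∀ a b, φ ⬝ᵥ b = 0 → f a b + (φ ⬝ᵥ a) * f v b = (c : F) * f a b := by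
      intro a b hb
      rw [← hc a b, tv_mulVec hφ.1, tv_mulVec hφ.1, hb, zero_smul, add_zero, hf.add_left,
        hf.smul_left]
    have hc1 : (c : F) = 1 := by
      have h := key v y hφ.2
      rw [hφ.1, zero_mul, add_zero] at h
      exact (mul_eq_right₀ hy).mp h.symm
    have h := key x y hφ.2
    rw [hc1, one_mul, hφx, one_mul] at h
    exact hy (by simpa using h)
  · refine Unitary.main4 hf (by simp) (fun k hk => hHM ⟨⟨1, fun a b => ?_⟩, hk.2⟩) hc₀ hskew hg
      fun hs => hgH ⟨hs, hMK hg⟩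
    exact (hk.1 a b).trans (one_mul _).symm

end Cfsg.Agent.SL4Geo66
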